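import Cfsg.Agent.Lib.Misc.SL2Odd

/-! The Heisenberg group over a field; Sylow 2-subgroups of `PSL(3, 2ⁿ)`. -/

set_option autoImplicit false

namespace Cfsg.Lib

open Matrix
open scoped MatrixGroups

/-- the group of upper unitriangular `3 × 3` matrices -/
@[ext] structure Heis3 (F : Type*) [Field F] where
  a : F
  b : F
  c : F

namespace Heis3

variable {F : Type*} [Field F]

instance : Mul (Heis3 F) := ⟨fun x y => ⟨x.a + y.a, x.b + y.b, x.c + y.c + x.a * y.b⟩⟩
instance : One (Heis3 F) := ⟨⟨0, 0, 0⟩⟩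
instance : Inv (Heis3 F) := ⟨fun x => ⟨-x.a, -x.b, -x.c + x.a * x.b⟩⟩

@[simp] theorem mul_a (x y : Heis3 F) : (x * y).a = x.a + y.a := rfl
@[simp] theorem mul_b (x y : Heis3 F) : (x * y).b = x.b + y.b := rfl
@[simp] theorem mul_c (x y : Heis3 F) : (x * y).c = x.c + y.c + x.a * y.b := rfl
@[simp] theorem one_a : (1 : Heis3 F).a = 0 := rfl
@[simp] theorem one_b : (1 : Heis3 F).b = 0 := rfl
@[simp] theorem one_c : (1 : Heis3 F).c = 0 := rfl
@[simp] theorem inv_a (x : Heis3 F) : x⁻¹.a = -x.a := rfl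
@[simp] theorem inv_b (x : Heis3 F) : x⁻¹.b = -x.b := rfl
@[simp] theorem inv_c (x : Heis3 F) : x⁻¹.c = -x.c + x.a * x.b := rfl

instance : Group (Heis3 F) :=
  Group.ofLeftAxioms (fun x y z => by ext <;> simp <;> ring) (fun x => by ext <;> simp)
    (fun x => by ext <;> simp)

/-- coordinates -/
def equivProd : Heis3 F ≃ F × F × F :=
  ⟨fun x => (x.a, x.b, x.c), fun x => ⟨x.1, x.2.1, x.2.2⟩, fun _ => rfl, fun _ => rfl⟩

theorem card [Fintype F] : Nat.card (Heis3 F) = Fintype.card F ^ 3 := by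
  rw [Nat.card_congr equivProd, Nat.card_prod, Nat.card_prod, Nat.card_eq_fintype_card]; ring

/-- the matrix representation -/
def toSL : Heis3 F →* SL(3, F) where
  toFun x := ⟨!![1, x.a, x.c; 0, 1, x.b; 0, 0, 1], by simp [Matrix.det_fin_three]⟩
  map_one' := by
    ext i j; fin_cases i <;> fin_cases j <;> simp
  map_mul' x y := by
    apply Subtype.ext
    change !![1, x.a + y.a, x.c + y.c + x.a * y.b; 0, 1, x.b + y.b; 0, 0, 1] =
      !![1, x.a, x.c; 0, 1, x.b; 0, 0, 1] * !![1, y.a, y.c; 0, 1, y.b; 0, 0, 1]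
    ext i j; fin_cases i <;> fin_cases j <;> simp [Matrix.mul_apply, Fin.sum_univ_three] <;> ring

/-- the projective representation -/
def toPSL : Heis3 F →* ProjectiveSpecialLinearGroup (Fin 3) F :=
  (QuotientGroup.mk' (Subgroup.center SL(3, F))).comp toSL

theorem toPSL_injective : Function.Injective (toPSL (F := F)) := by
  rw [injective_iff_map_eq_one]
  intro x hx
  obtain ⟨r, -, e⟩ := Matrix.SpecialLinearGroup.mem_center_iff.1 ((QuotientGroup.eq_one_iff _).1 hx)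
  have h1 := congrFun (congrFun e 0) 1
  have h2 := congrFun (congrFun e 1) 2
  have h3 := congrFun (congrFun e 0) 2
  simp [toSL] at h1 h2 h3
  exact Heis3.ext h1.symm h2.symm h3.symm

theorem exists_sylow [Fintype F] (h2 : (2 : F) = 0) :
    ∃ S : Sylow 2 (ProjectiveSpecialLinearGroup (Fin 3) F),
      (S : Subgroup (ProjectiveSpecialLinearGroup (Fin 3) F)) = toPSL.range := by
  haveI : Fact (Nat.Prime 2) := ⟨Nat.prime_two⟩
  haveI : CharP F 2 := (CharP.charP_iff_prime_eq_zero Nat.prime_two).2 h2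
  obtain ⟨n, -, hn⟩ := FiniteField.card F 2
  have hc : Nat.card (toPSL (F := F)).range = Fintype.card F ^ 3 := by
    rw [← card, Nat.card_congr (MonoidHom.ofInjective toPSL_injective).toEquiv]
  obtain ⟨S, hS⟩ := (IsPGroup.of_card (n := n * 3) (by rw [hc, hn, pow_mul])).exists_le_sylow
  refine ⟨S, (Subgroup.eq_of_le_of_card_ge hS ?_).symm⟩
  obtain ⟨k, hk⟩ := IsPGroup.iff_card.1 S.isPGroup'
  have h1 := h9_card_sl_mul (ι := Fin 3) (K := F)
  rw [Matrix.card_GL_field, Fin.prod_univ_three] at h1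
  have h3 : Nat.card S ∣ Nat.card SL(3, F) :=
    (Subgroup.card_subgroup_dvd_card _).trans (Subgroup.card_quotient_dvd_card _)
  have h4 := h3.mul_left (Nat.card Fˣ)
  have hq : Even (Fintype.card F) := by rw [hn]; exact (Nat.even_pow.2 ⟨even_two, n.ne_zero⟩)
  have h0 : 0 < Fintype.card F := Fintype.card_pos
  rw [h1] at h4
  rw [hc, hk]
  rw [hk] at h4
  generalize Fintype.card F = q at *
  have e : (q ^ 3 - q ^ ((0 : Fin 3) : ℕ)) * (q ^ 3 - q ^ ((1 : Fin 3) : ℕ)) *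
      (q ^ 3 - q ^ ((2 : Fin 3) : ℕ)) = q ^ 3 * ((q ^ 3 - 1) * (q ^ 2 - 1) * (q - 1)) := by
    simp only [Fin.val_zero, Fin.val_one, Fin.val_two, pow_zero, pow_one]
    rw [show q ^ 3 - q = q * (q ^ 2 - 1) by rw [Nat.mul_sub, mul_one]; ring_nf,
      show q ^ 3 - q ^ 2 = q ^ 2 * (q - 1) by rw [Nat.mul_sub, mul_one]; ring_nf]
    ring
  rw [e] at h4
  have od : ∀ m, 0 < m → Odd (q ^ m - 1) := fun m hm =>
    Nat.Even.sub_odd (Nat.one_le_pow _ _ h0) (Nat.even_pow.2 ⟨hq, hm.ne'⟩) odd_one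
  have : Odd ((q ^ 3 - 1) * (q ^ 2 - 1) * (q - 1)) :=
    ((od 3 (by norm_num)).mul (od 2 (by norm_num))).mul (by simpa using od 1 (by norm_num))
  exact Nat.le_of_dvd (by positivity)
    ((Nat.Coprime.pow_left k (Nat.coprime_two_left.2 this)).dvd_of_dvd_mul_right h4)

theorem iso {Q : Type*} [Group Q] [Finite Q] [Fintype F] (α β ζ : F → Q)
    (hα : ∀ s t, α (s + t) = α s * α t) (hβ : ∀ s t, β (s + t) = β s * β t)
    (hζ : ∀ s t, ζ (s + t) = ζ s * ζ t) (hc : ∀ u g, ζ u * g = g * ζ u)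
    (hrel : ∀ s t, α s * β t = ζ (s * t) * (β t * α s)) (hinj : ∀ u, ζ u = 1 → u = 0)
    (hcard : Nat.card Q = Fintype.card F ^ 3) : Nonempty (Heis3 F ≃* Q) := by
  have z : ∀ f : F → Q, (∀ s t, f (s + t) = f s * f t) → f 0 = 1 := fun f h => by
    simpa using h 0 0
  let φ : Heis3 F →* Q := MonoidHom.mk' (fun x => ζ x.c * β x.b * α x.a) fun x y => by
    simp only [mul_a, mul_b, mul_c, hα, hβ, hζ]
    calc _ = ζ x.c * (ζ y.c * (ζ (x.a * y.b) * β x.b)) * β y.b * α x.a * α y.a := by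
          simp only [mul_assoc]
      _ = ζ x.c * β x.b * (ζ y.c * (ζ (x.a * y.b) * (β y.b * α x.a))) * α y.a := by
        rw [hc _ (β x.b), ← mul_assoc (ζ y.c), hc _ (β x.b)]; simp only [mul_assoc]
      _ = ζ x.c * β x.b * ((ζ y.c * α x.a) * β y.b) * α y.a := by rw [← hrel, mul_assoc (ζ y.c)]
      _ = _ := by rw [hc y.c (α x.a)]; simp only [mul_assoc]
  have hφ : Function.Injective φ := by
    rw [injective_iff_map_eq_one]
    intro x hx
    have k : ∀ y, φ (y * x * y⁻¹ * x⁻¹) = 1 := fun y => by simp [hx]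
    have h1 := k ⟨1, 0, 0⟩
    have h2 := k ⟨0, 1, 0⟩
    simp [φ, z α hα, z β hβ] at h1 h2
    have hb := hinj _ h1
    have ha := hinj _ h2
    have hb : x.b = 0 := by linear_combination hb
    have ha : x.a = 0 := by linear_combination -ha
    simp [φ, ha, hb, z α hα, z β hβ] at hx
    exact Heis3.ext ha hb (hinj _ hx)
  exact ⟨MulEquiv.ofBijective φ (hφ.bijective_of_nat_card_le (by rw [hcard, card]))⟩

theorem iso_sylow {Q : Type*} [Group Q] [Fintype F] (h2 : (2 : F) = 0) (e : Heis3 F ≃* Q) :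
    ∃ S : Sylow 2 (ProjectiveSpecialLinearGroup (Fin 3) F),
      Nonempty (Q ≃* (S : Subgroup (ProjectiveSpecialLinearGroup (Fin 3) F))) := by
  obtain ⟨S, hS⟩ := exists_sylow h2
  exact ⟨S, ⟨e.symm.trans ((MonoidHom.ofInjective toPSL_injective).trans
    (MulEquiv.subgroupCongr hS.symm))⟩⟩

end Heis3

end Cfsg.Lib
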