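import Mathlib
import Cfsg.Agent.Lib.Misc.Extraspecial2
import Cfsg.Agent.Lib.Transfer.Basic

set_option autoImplicit false

namespace Cfsg.Lib

open scoped Pointwise
open MulAction

/-- A cocycle trivial on all stabilizers has trivial product. -/
theorem h9_prod_cocycle_eq_one {P Y A : Type*} [Group P] [MulAction P Y] [CommGroup A] (c : P → Y → A)
    (hc : ∀ g h y, c (g * h) y = c g (h • y) * c h y) (s : Finset Y) (hs : ∀ g : P, ∀ y ∈ s, g • y ∈ s)
    (h1 : ∀ g : P, ∀ y ∈ s, g • y = y → c g y = 1) (g : P) : ∏ y ∈ s, c g y = 1 := by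
  let rep : Y → Y := fun y => Quotient.out (Quotient.mk (orbitRel P Y) y)
  have hrep : ∀ y, ∃ h : P, h • rep y = y := fun y =>
    (orbitRel P Y).symm (Quotient.exact (Quotient.out_eq (Quotient.mk (orbitRel P Y) y)))
  choose h hh using hrep
  have hrep2 : ∀ y, rep (g • y) = rep y := fun y =>
    congrArg Quotient.out (Quotient.sound (⟨g, rfl⟩ : (orbitRel P Y) (g • y) y))
  have key : ∀ y ∈ s, c g y * c (h y) (rep y) = c (h (g • y)) (rep (g • y)) := by
    intro y hy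
    have h2 : rep y ∈ s := by
      have := hs (h y)⁻¹ y hy
      rwa [inv_smul_eq_iff.2 (hh y).symm] at this
    have h3 : ((h (g • y))⁻¹ * (g * h y)) • rep y = rep y := by
      rw [mul_smul, mul_smul, hh, inv_smul_eq_iff, ← hrep2, hh]
    have h4 := hc (h (g • y)) ((h (g • y))⁻¹ * (g * h y)) (rep y)
    rw [mul_inv_cancel_left, h1 _ _ h2 h3, h3, mul_one, hc, hh] at h4
    rw [h4, hrep2]
  have h5 : ∏ y ∈ s, c (h (g • y)) (rep (g • y)) = ∏ y ∈ s, c (h y) (rep y) :=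
    Finset.prod_bij (fun y _ => g • y) (fun y hy => hs g y hy) (fun a _ b _ e => smul_left_cancel g e)
      (fun y hy => ⟨g⁻¹ • y, hs _ y hy, smul_inv_smul g y⟩) (fun _ _ => rfl)
  rw [← Finset.prod_congr rfl key, Finset.prod_mul_distrib, mul_eq_right] at h5
  exact h5

section
variable {G X : Type*} [Group G] [MulAction G X] [Fintype X] [DecidableEq X]

open Classical in
/-- orbit of a subgroup as a finset -/
noncomputable def h9_orb (M : Subgroup G) (q : X) : Finset X := Finset.univ.filter fun v => ∃ m ∈ M, m • q = v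

theorem h9_mem_orb {M : Subgroup G} {q v : X} : v ∈ h9_orb M q ↔ ∃ m ∈ M, m • q = v := by simp [h9_orb]

theorem h9_smul_orb {M : Subgroup G} {g : G} (hg : g ∈ Subgroup.normalizer (M : Set G)) (q : X) :
    g • h9_orb M q = h9_orb M (g • q) := by
  ext v
  simp only [Finset.mem_smul_finset, h9_mem_orb]
  constructor
  · rintro ⟨_, ⟨m, hm, rfl⟩, rfl⟩
    exact ⟨g * m * g⁻¹, h9_conj_mem_of_mem_normalizer hg hm, by simp [mul_smul]⟩
  · rintro ⟨m, hm, rfl⟩
    exact ⟨_, ⟨g⁻¹ * m * g, h9_conj_mem_of_mem_normalizer' hg hm, rfl⟩, by simp [mul_smul]⟩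

theorem h9_orb_smul {M : Subgroup G} {m : G} (hm : m ∈ M) (q : X) : h9_orb M (m • q) = h9_orb M q := by
  ext v
  simp only [h9_mem_orb]
  constructor
  · rintro ⟨n, hn, rfl⟩
    exact ⟨n * m, M.mul_mem hn hm, mul_smul _ _ _⟩
  · rintro ⟨n, hn, rfl⟩
    exact ⟨n * m⁻¹, M.mul_mem hn (M.inv_mem hm), by simp [mul_smul]⟩

theorem h9_smul_orb_of_mem {M : Subgroup G} {m : G} (hm : m ∈ M) (q : X) : m • h9_orb M q = h9_orb M q := by
  rw [h9_smul_orb (Subgroup.le_normalizer hm), h9_orb_smul hm]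

theorem h9_cocycle_finset {c : G → X → ℤˣ} (hc : ∀ g h y, c (g * h) y = c g (h • y) * c h y) (g h : G)
    (B : Finset X) : ∏ v ∈ B, c (g * h) v = (∏ v ∈ h • B, c g v) * ∏ v ∈ B, c h v := by
  rw [Finset.smul_finset_def, Finset.prod_image (fun a _ b _ e => smul_left_cancel h e),
    ← Finset.prod_mul_distrib]
  exact Finset.prod_congr rfl fun v _ => hc g h v

/-- data for the stepwise computation of a transfer -/
structure H9Tr (c : G → X → ℤˣ) (E P : Subgroup G) (z : G) : Prop where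
  coc : ∀ g h y, c (g * h) y = c g (h • y) * c h y
  xs : XS E z
  pg : IsPGroup 2 P
  le : E ≤ P
  norm : P ≤ Subgroup.normalizer (E : Set G)

variable {c : G → X → ℤˣ} {E P : Subgroup G} {z : G}

/-- the character of `M` attached to the orbit of `q` -/
noncomputable def h9_chi (c : G → X → ℤˣ) (M : Subgroup G) (q : X) (g : G) : ℤˣ := ∏ v ∈ h9_orb M q, c g v

theorem H9Tr.chi_mul (T : H9Tr c E P z) {M : Subgroup G} (q : X) (g : G) {h : G} (hh : h ∈ M) :
    h9_chi c M q (g * h) = h9_chi c M q g * h9_chi c M q h := by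
  rw [h9_chi, h9_cocycle_finset T.coc, h9_smul_orb_of_mem hh]; rfl

theorem H9Tr.chi_one (T : H9Tr c E P z) (M : Subgroup G) (q : X) : h9_chi c M q 1 = 1 := by
  have := T.chi_mul q 1 M.one_mem
  rwa [mul_one, left_eq_mul] at this

theorem H9Tr.chi_inv (T : H9Tr c E P z) {M : Subgroup G} (q : X) {g : G} (hg : g ∈ M) :
    h9_chi c M q g⁻¹ = h9_chi c M q g := by
  have := T.chi_mul q g⁻¹ hg
  rw [inv_mul_cancel, T.chi_one] at this
  rw [eq_inv_of_mul_eq_one_left this.symm, Int.units_inv_eq_self]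

theorem H9Tr.step_of [Finite G] (T : H9Tr c E P z) (q : X) {M : Subgroup G} (hL : P ⊓ stabilizer G q ≤ M)
    (hM : M ≤ E ⊔ (P ⊓ stabilizer G q)) {a : G} (ha : a ∈ E) (haM : a ∉ M)
    (haN : a ∈ Subgroup.normalizer (M : Set G)) (ha2 : a * a ∈ M) :
    ∃ M' : Subgroup G, M ≤ M' ∧ M' ≤ E ⊔ (P ⊓ stabilizer G q) ∧ a ∈ M' ∧
      (∀ g ∈ M', g ∈ M ∨ ∃ m ∈ M, g = a * m) ∧ M.relIndex E = 2 * M'.relIndex E ∧
      (∀ m ∈ M, h9_chi c M' q m = h9_chi c M q (m⁻¹ * (a⁻¹ * m * a))) ∧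
      h9_chi c M' q a = h9_chi c M q (a * a) := by
  have hMP : M ≤ P := hM.trans (sup_le T.le inf_le_left)
  let M' : Subgroup G :=
    { carrier := {g | g ∈ M ∨ a⁻¹ * g ∈ M}
      one_mem' := Or.inl M.one_mem
      mul_mem' := by
        rintro x y (hx | hx) (hy | hy)
        · exact Or.inl (M.mul_mem hx hy)
        · right
          have := M.mul_mem (h9_conj_mem_of_mem_normalizer' haN hx) hy
          rwa [show a⁻¹ * x * a * (a⁻¹ * y) = a⁻¹ * (x * y) by group] at this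
        · right
          have := M.mul_mem hx hy
          rwa [mul_assoc] at this
        · left
          have := M.mul_mem (M.mul_mem (h9_conj_mem_of_mem_normalizer haN hx) ha2) hy
          rwa [show a * (a⁻¹ * x) * a⁻¹ * (a * a) * (a⁻¹ * y) = x * y by group] at this
      inv_mem' := by
        rintro x (hx | hx)
        · exact Or.inl (M.inv_mem hx)
        · right
          have := M.inv_mem (M.mul_mem (h9_conj_mem_of_mem_normalizer haN hx) ha2)
          rwa [show (a * (a⁻¹ * x) * a⁻¹ * (a * a))⁻¹ = a⁻¹ * x⁻¹ by group] at this }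
  have hmem : ∀ g, g ∈ M' ↔ g ∈ M ∨ a⁻¹ * g ∈ M := fun g => Iff.rfl
  have hle : M ≤ M' := fun g hg => Or.inl hg
  have haM' : a ∈ M' := Or.inr (by simp)
  have horb : h9_orb M' q = h9_orb M q ∪ a • h9_orb M q := by
    ext v
    simp only [Finset.mem_union, Finset.mem_smul_finset, h9_mem_orb]
    constructor
    · rintro ⟨m, hm | hm, rfl⟩
      · exact Or.inl ⟨m, hm, rfl⟩
      · exact Or.inr ⟨_, ⟨_, hm, rfl⟩, by simp [mul_smul]⟩
    · rintro (⟨m, hm, rfl⟩ | ⟨_, ⟨m, hm, rfl⟩, rfl⟩)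
      · exact ⟨m, hle hm, rfl⟩
      · exact ⟨a * m, M'.mul_mem haM' (hle hm), mul_smul _ _ _⟩
  have hdisj : Disjoint (h9_orb M q) (a • h9_orb M q) := by
    rw [Finset.disjoint_left]
    intro v hv hv'
    obtain ⟨m, hm, rfl⟩ := h9_mem_orb.1 hv
    obtain ⟨_, hw, e⟩ := Finset.mem_smul_finset.1 hv'
    obtain ⟨n, hn, rfl⟩ := h9_mem_orb.1 hw
    have : m⁻¹ * a * n ∈ M := hL ⟨P.mul_mem (P.mul_mem (P.inv_mem (hMP hm)) (T.le ha)) (hMP hn), mem_stabilizer_iff.2 <| by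
      rw [mul_smul, mul_smul, e, inv_smul_smul]⟩
    rw [M.mul_mem_cancel_right hn, M.mul_mem_cancel_left (M.inv_mem hm)] at this
    exact haM this
  have hchi : ∀ g, h9_chi c M' q g = h9_chi c M q g * ∏ v ∈ a • h9_orb M q, c g v := fun g => by
    rw [h9_chi, horb, Finset.prod_union hdisj]; rfl
  refine ⟨M', hle, fun g hg => ?_, haM', fun g hg => ?_, ?_, fun m hm => ?_, ?_⟩
  · rcases hg with hg | hg
    · exact hM hg
    · have := Subgroup.mul_mem _ (Subgroup.mem_sup_left ha) (hM hg)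
      simpa using this
  · exact hg.imp id fun h => ⟨_, h, by group⟩
  · rw [← Subgroup.inf_relIndex_right M, ← Subgroup.inf_relIndex_right M',
      ← Subgroup.relIndex_mul_relIndex (M ⊓ E) (M' ⊓ E) E (inf_le_inf_right E hle) inf_le_right]
    congr 1
    rw [Subgroup.relIndex_eq_two_iff]
    refine ⟨a, ⟨haM', ha⟩, fun b hb => ?_⟩
    by_cases hbM : b ∈ M
    · exact Or.inr ⟨⟨hbM, hb.2⟩, fun h => haM ((M.mul_mem_cancel_left hbM).1 h.1)⟩
    · refine Or.inl ⟨⟨?_, E.mul_mem hb.2 ha⟩, fun h => hbM h.1⟩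
      have := M.mul_mem (h9_conj_mem_of_mem_normalizer haN (hb.1.resolve_left hbM)) ha2
      rwa [show a * (a⁻¹ * b) * a⁻¹ * (a * a) = b * a by group] at this
  · have h1 := h9_conj_mem_of_mem_normalizer' haN hm
    rw [hchi, T.chi_mul q _ h1, T.chi_inv q hm]
    congr 1
    have h2 := h9_cocycle_finset T.coc m a (h9_orb M q)
    have h3 := T.chi_mul q a h1
    rw [show a * (a⁻¹ * m * a) = m * a by group, h9_chi, h2, mul_comm] at h3
    exact mul_left_cancel h3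
  · rw [hchi, h9_chi, h9_chi, h9_cocycle_finset T.coc, mul_comm]

theorem H9Tr.exists_step [Finite G] (T : H9Tr c E P z) (q : X) {M : Subgroup G}
    (hL : P ⊓ stabilizer G q ≤ M) (hM : M ≤ E ⊔ (P ⊓ stabilizer G q)) (hE : ¬ E ≤ M) :
    ∃ a ∈ E, a ∉ M ∧ a ∈ Subgroup.normalizer (M : Set G) ∧ a * a ∈ M := by
  obtain ⟨x, hx, hxM, hxN, hx2⟩ := h9_exists_normalizer_not_mem_pow_mem
    (T.pg.to_le (sup_le T.le inf_le_left)) hM (fun h => hE (h ▸ le_sup_left))
  obtain ⟨a, ha, l, hl, rfl⟩ := (mem_sup_of_le_normalizer_left (inf_le_left.trans T.norm)).1 hx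
  have hlM := hL hl
  have haN : a ∈ Subgroup.normalizer (M : Set G) :=
    (Subgroup.mul_mem_cancel_right _ (Subgroup.le_normalizer hlM)).1 hxN
  refine ⟨a, ha, fun h => hxM (M.mul_mem h hlM), haN, ?_⟩
  have := M.mul_mem (M.inv_mem (h9_conj_mem_of_mem_normalizer haN hlM)) (M.mul_mem hx2 (M.inv_mem hlM))
  rwa [pow_two, show (a * l * a⁻¹)⁻¹ * (a * l * (a * l) * l⁻¹) = a * (l⁻¹ * l) * a by group, inv_mul_cancel,
    mul_one] at this

theorem H9Tr.level0 [Finite G] (T : H9Tr c E P z) (q : X) (n : ℕ) : ∀ {M : Subgroup G},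
    M.relIndex E = n → P ⊓ stabilizer G q ≤ M → M ≤ E ⊔ (P ⊓ stabilizer G q) →
    (∀ m ∈ M, h9_chi c M q m = 1) →
    ∀ g ∈ E ⊔ (P ⊓ stabilizer G q), h9_chi c (E ⊔ (P ⊓ stabilizer G q)) q g = 1 := by
  induction n using Nat.strong_induction_on with
  | _ n ih =>
    intro M hn hL hM h
    by_cases hE : E ≤ M
    · rwa [le_antisymm hM (sup_le hE hL)] at h
    obtain ⟨a, ha, haM, haN, ha2⟩ := T.exists_step q hL hM hE
    obtain ⟨M', h1, h2, h3, h4, h5, h6, h7⟩ := T.step_of q hL hM ha haM haN ha2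
    have h0 : M'.relIndex E ≠ 0 := Subgroup.FiniteIndex.index_ne_zero
    have h8 : ∀ m ∈ M, h9_chi c M' q m = 1 := fun m hm => by
      rw [h6 m hm, h _ (M.mul_mem (M.inv_mem hm) (h9_conj_mem_of_mem_normalizer' haN hm))]
    refine ih _ (by omega) rfl (hL.trans h1) h2 fun g hg => ?_
    rcases h4 g hg with hg | ⟨m, hm, rfl⟩
    · exact h8 g hg
    · rw [T.chi_mul q a (h1 hm), h8 m hm, h7, h _ ha2, mul_one]

theorem H9Tr.level1 [Finite G] (T : H9Tr c E P z) (q : X) {r : ℕ} (hr : 2 ≤ r ∨ P ≤ E) {M : Subgroup G}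
    (hn : r ≤ M.relIndex E) (hL : P ⊓ stabilizer G q ≤ M) (hM : M ≤ E ⊔ (P ⊓ stabilizer G q))
    (h : ∀ m ∈ M, m ∈ E → h9_chi c M q m = 1) :
    ∀ g ∈ E ⊔ (P ⊓ stabilizer G q), h9_chi c (E ⊔ (P ⊓ stabilizer G q)) q g = 1 := by
  have hMP : M ≤ P := hM.trans (sup_le T.le inf_le_left)
  rcases hr with hr | hr
  swap
  · exact T.level0 q _ rfl hL hM fun m hm => h m hm (hr (hMP hm))
  obtain ⟨a, ha, haM, haN, ha2⟩ := T.exists_step q hL hM (fun h => by
    rw [Subgroup.relIndex_eq_one.2 h] at hn; omega)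
  obtain ⟨M', h1, h2, h3, h4, h5, h6, h7⟩ := T.step_of q hL hM ha haM haN ha2
  have h8 : ∀ m ∈ M, h9_chi c M' q m = 1 := fun m hm => by
    rw [h6 m hm, h _ (M.mul_mem (M.inv_mem hm) (h9_conj_mem_of_mem_normalizer' haN hm))]
    rw [show m⁻¹ * (a⁻¹ * m * a) = m⁻¹ * a⁻¹ * m * a by group]
    exact E.mul_mem (h9_conj_mem_of_mem_normalizer' (T.norm (hMP hm)) (E.inv_mem ha)) ha
  refine T.level0 q _ rfl (hL.trans h1) h2 fun g hg => ?_
  rcases h4 g hg with hg | ⟨m, hm, rfl⟩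
  · exact h8 g hg
  · rw [T.chi_mul q a (h1 hm), h8 m hm, h7, h _ ha2 (E.mul_mem ha ha), mul_one]

theorem H9Tr.level2 [Finite G] (T : H9Tr c E P z) (q : X) {r : ℕ} (hr0 : 1 ≤ r) (hr : 2 ≤ r ∨ P ≤ E)
    {M : Subgroup G} (hn : 2 * r ≤ M.relIndex E) (hL : P ⊓ stabilizer G q ≤ M)
    (hM : M ≤ E ⊔ (P ⊓ stabilizer G q)) (h : h9_chi c M q z = 1) :
    ∀ g ∈ E ⊔ (P ⊓ stabilizer G q), h9_chi c (E ⊔ (P ⊓ stabilizer G q)) q g = 1 := by
  obtain ⟨a, ha, haM, haN, ha2⟩ := T.exists_step q hL hM (fun h => by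
    rw [Subgroup.relIndex_eq_one.2 h] at hn; omega)
  obtain ⟨M', h1, h2, h3, h4, h5, h6, h7⟩ := T.step_of q hL hM ha haM haN ha2
  have h8 : ∀ m ∈ M, m ∈ E → h9_chi c M' q m = 1 := fun m hm hmE => by
    rw [h6 m hm]
    rcases T.xs.toXC.conj (E.inv_mem ha) hmE with e | e <;> rw [inv_inv] at e <;> rw [e]
    · rw [inv_mul_cancel, T.chi_one]
    · rw [inv_mul_cancel_left, h]
  refine T.level1 q hr (by omega) (hL.trans h1) h2 fun g hg hgE => ?_
  rcases h4 g hg with hg | ⟨m, hm, rfl⟩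
  · exact h8 g hg hgE
  · rw [T.chi_mul q a (h1 hm), h8 m hm ((E.mul_mem_cancel_left ha).1 hgE), h7, mul_one]
    rcases T.xs.sq_mem a ha with e | e <;> rw [e]
    · exact T.chi_one _ _
    · exact h

theorem H9Tr.level3 [Finite G] (T : H9Tr c E P z) (q : X) {r : ℕ} (hr0 : 1 ≤ r) (hr : 2 ≤ r ∨ P ≤ E)
    {M : Subgroup G} (hn : 4 * r ≤ M.relIndex E) (hL : P ⊓ stabilizer G q ≤ M)
    (hM : M ≤ E ⊔ (P ⊓ stabilizer G q)) (h : z ∈ M) :
    ∀ g ∈ E ⊔ (P ⊓ stabilizer G q), h9_chi c (E ⊔ (P ⊓ stabilizer G q)) q g = 1 := by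
  obtain ⟨a, ha, haM, haN, ha2⟩ := T.exists_step q hL hM (fun h => by
    rw [Subgroup.relIndex_eq_one.2 h] at hn; omega)
  obtain ⟨M', h1, h2, h3, h4, h5, h6, h7⟩ := T.step_of q hL hM ha haM haN ha2
  refine T.level2 q hr0 hr (by omega) (hL.trans h1) h2 ?_
  rw [h6 z h, mul_assoc, ← T.xs.central a ha, inv_mul_cancel_left, inv_mul_cancel, T.chi_one]

theorem H9Tr.levelz [Finite G] (T : H9Tr c E P z) (q : X) (h : z • q ≠ q) :
    ∀ g ∈ E ⊔ (P ⊓ stabilizer G q), h9_chi c (E ⊔ (P ⊓ stabilizer G q)) q g = 1 := by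
  have hc : ∀ m ∈ P ⊓ stabilizer G q, m * z = z * m := fun m hm => T.xs.comm_of_normalizer (T.norm hm.1)
  obtain ⟨M', h1, h2, h3, h4, h5, h6, h7⟩ := T.step_of q le_rfl le_sup_right T.xs.mem (fun hz => h hz.2)
    (h9_mem_normalizer_of_conj_mem fun m hm => by rw [← hc m hm]; simpa using hm)
    (by rw [T.xs.sq]; exact Subgroup.one_mem _)
  have h8 : ∀ m ∈ P ⊓ stabilizer G q, h9_chi c M' q m = 1 := fun m hm => by
    rw [h6 m hm, mul_assoc, hc m hm, inv_mul_cancel_left, inv_mul_cancel, T.chi_one]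
  refine T.level0 q _ rfl h1 h2 fun g hg => ?_
  rcases h4 g hg with hg | ⟨m, hm, rfl⟩
  · exact h8 g hg
  · rw [T.chi_mul q z (h1 hm), h8 m hm, h7, T.xs.sq, T.chi_one, mul_one]

theorem H9Tr.prod_eq_one [Finite G] (T : H9Tr c E P z) (s : Finset X) (hs : ∀ g ∈ P, ∀ q ∈ s, g • q ∈ s)
    (h : ∀ q ∈ s, ∀ g ∈ E ⊔ (P ⊓ stabilizer G q), h9_chi c (E ⊔ (P ⊓ stabilizer G q)) q g = 1) :
    ∀ g ∈ P, ∏ q ∈ s, c g q = 1 := by
  intro g hg
  have h1 := h9_prod_cocycle_eq_one (P := P) (Y := Finset X) (fun p B => ∏ v ∈ B, c p v)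
    (fun p p' B => h9_cocycle_finset T.coc p p' B) (s.image (h9_orb E)) (by
      intro p B hB
      obtain ⟨q, hq, rfl⟩ := Finset.mem_image.1 hB
      exact Finset.mem_image.2 ⟨_, hs p p.2 q hq, (h9_smul_orb (T.norm p.2) q).symm⟩) (by
      intro p B hB e
      obtain ⟨q, hq, rfl⟩ := Finset.mem_image.1 hB
      have e1 : h9_orb (E ⊔ (P ⊓ stabilizer G q)) q = h9_orb E q := by
        ext v
        simp only [h9_mem_orb]
        constructor
        · rintro ⟨m, hm, rfl⟩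
          obtain ⟨a, ha, l, hl, rfl⟩ := (mem_sup_of_le_normalizer_left (inf_le_left.trans T.norm)).1 hm
          exact ⟨a, ha, by rw [mul_smul, show l • q = q from hl.2]⟩
        · rintro ⟨m, hm, rfl⟩
          exact ⟨m, Subgroup.mem_sup_left hm, rfl⟩
      have h2 : (p : G) • q ∈ h9_orb E q := by
        rw [← e]
        exact Finset.smul_mem_smul_finset (h9_mem_orb.2 ⟨1, E.one_mem, one_smul _ _⟩)
      obtain ⟨a, ha, e2⟩ := h9_mem_orb.1 h2
      have h3 : (p : G) ∈ E ⊔ (P ⊓ stabilizer G q) := by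
        have := Subgroup.mul_mem_sup (S := E) (T := P ⊓ stabilizer G q) ha (y := a⁻¹ * p)
          ⟨P.mul_mem (P.inv_mem (T.le ha)) p.2, mem_stabilizer_iff.2 <| by
            rw [mul_smul, ← e2, inv_smul_smul]⟩
        simpa using this
      have := h q hq p h3
      rwa [h9_chi, e1] at this) ⟨g, hg⟩
  rw [← h1, ← Finset.prod_fiberwise_of_maps_to (g := h9_orb E) (t := s.image (h9_orb E))
    (fun q hq => Finset.mem_image_of_mem _ hq)]
  refine Finset.prod_congr rfl fun B hB => Finset.prod_congr ?_ fun _ _ => rfl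
  obtain ⟨q, hq, rfl⟩ := Finset.mem_image.1 hB
  ext v
  rw [Finset.mem_filter]
  constructor
  · rintro ⟨-, e⟩
    rw [← e]; exact h9_mem_orb.2 ⟨1, E.one_mem, one_smul _ _⟩
  · intro hv
    obtain ⟨m, hm, rfl⟩ := h9_mem_orb.1 hv
    exact ⟨hs m (T.le hm) q hq, h9_orb_smul hm q⟩

end

/-- The transfer theorem for a large extraspecial subgroup. -/
theorem h9_extraspecial_transfer {G : Type*} [Group G] [Finite G] (hres : pResidual 2 G = ⊤)
    {H K E P : Subgroup G} {z : G} (hKi : K.relIndex H = 2) (hE : XS E z) (hP : IsPGroup 2 P) (hEP : E ≤ P)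
    (hPH : P ≤ H) (hPN : P ≤ Subgroup.normalizer (E : Set G)) {r : ℕ} (hr0 : 1 ≤ r) (hr : 2 ≤ r ∨ P ≤ E)
    (hcase : ∀ t : G, t ∉ H → t⁻¹ * z * t ∈ H →
      ((∀ e ∈ E, t⁻¹ * e * t ∈ H → t⁻¹ * e * t ∈ K) ∧ r ≤ (H.map (MulAut.conj t).toMonoidHom).relIndex E) ∨
      (t⁻¹ * z * t ∈ K ∧ 2 * r ≤ (H.map (MulAut.conj t).toMonoidHom).relIndex E) ∨
      4 * r ≤ (H.map (MulAut.conj t).toMonoidHom).relIndex E) : P ≤ K := by
  classical
  have := Fintype.ofFinite (G ⧸ H)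
  let κ : G → ℤˣ := fun g => if g ∈ K then 1 else -1
  have hκ1 : ∀ g, κ g = 1 ↔ g ∈ K := fun g => by
    by_cases h : g ∈ K <;> simp [κ, h]
  have hκ : ∀ a ∈ H, ∀ b ∈ H, κ (a * b) = κ a * κ b := by
    intro a ha b hb
    have := Subgroup.mul_mem_iff_of_index_two (H := K.subgroupOf H) hKi (a := ⟨a, ha⟩) (b := ⟨b, hb⟩)
    simp only [Subgroup.mem_subgroupOf, Subgroup.coe_mul] at this
    by_cases h1 : a ∈ K <;> by_cases h2 : b ∈ K <;> simp_all [κ]
  let c : G → G ⧸ H → ℤˣ := fun g q => κ ((g • q).out⁻¹ * g * q.out)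
  have hcH : ∀ (g : G) (q : G ⧸ H), (g • q).out⁻¹ * g * q.out ∈ H := fun g q => by
    rw [mul_assoc, ← QuotientGroup.eq, QuotientGroup.out_eq', ← smul_eq_mul, Quotient.coe_smul_out]
  have hc : ∀ g h y, c (g * h) y = c g (h • y) * c h y := fun g h y => by
    simp only [c]
    rw [← hκ _ (hcH _ _) _ (hcH _ _), mul_smul]
    congr 1; group
  have T : H9Tr c E P z := ⟨hc, hE, hP, hEP, hPN⟩
  let V : G →* ℤˣ := MonoidHom.mk' (fun g => ∏ q, c g q) fun g h => by
    rw [h9_cocycle_finset hc, Finset.smul_finset_univ]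
  have hV : ∀ g, ∏ q, c g q = 1 := fun g =>
    pResidual_le_ker (p := 2) (fun u => ⟨1, by simp⟩) V (hres ▸ Subgroup.mem_top g)
  have hstab : ∀ (g : G) (q : G ⧸ H), g • q = q ↔ q.out⁻¹ * g * q.out ∈ H := fun g q => by
    rw [mul_assoc, ← QuotientGroup.eq, QuotientGroup.out_eq', ← smul_eq_mul, Quotient.coe_smul_out, eq_comm]
  have hone : ∀ g ∈ H, g • ((1 : G) : G ⧸ H) = (1 : G) := fun g hg => by
    rw [Quotient.smul_coe, QuotientGroup.eq]; simpa using hg
  intro g hg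
  have h1 := T.prod_eq_one (Finset.univ.erase ((1 : G) : G ⧸ H)) (fun p hp q hq => by
    rw [Finset.mem_erase] at hq ⊢
    refine ⟨fun h => hq.1 ?_, Finset.mem_univ _⟩
    rw [← hone p (hPH hp)] at h
    exact smul_left_cancel p h) (fun q hq => by
    by_cases hz : z • q = q
    swap
    · exact T.levelz q hz
    have ht : q.out ∉ H := fun h => (Finset.mem_erase.1 hq).1 (by
      rw [← QuotientGroup.out_eq' q, QuotientGroup.eq]; simpa using h)
    have hidx : (H.map (MulAut.conj q.out).toMonoidHom).relIndex E = (P ⊓ stabilizer G q).relIndex E := by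
      rw [← Subgroup.inf_relIndex_right, ← Subgroup.inf_relIndex_right (P ⊓ _)]
      congr 1
      ext e
      simp only [Subgroup.mem_inf, h9_mem_conj_iff, mem_stabilizer_iff, hstab]
      exact ⟨fun h => ⟨⟨hEP h.2, h.1⟩, h.2⟩, fun h => ⟨h.1.2, h.2⟩⟩
    have hchi : ∀ m, m • q = q → q.out⁻¹ * m * q.out ∈ K → h9_chi c (P ⊓ stabilizer G q) q m = 1 := by
      intro m hm hmK
      have : h9_orb (P ⊓ stabilizer G q) q = {q} := by
        ext v
        rw [h9_mem_orb, Finset.mem_singleton]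
        exact ⟨fun ⟨m, hm, e⟩ => e.symm.trans hm.2, fun e => ⟨1, Subgroup.one_mem _, by simp [e]⟩⟩
      rw [h9_chi, this, Finset.prod_singleton]
      simp only [c]
      rw [hm, hκ1]; exact hmK
    rcases hcase q.out ht ((hstab z q).1 hz) with ⟨h1, h2⟩ | ⟨h1, h2⟩ | h2 <;> rw [hidx] at h2
    · exact T.level1 q hr h2 le_rfl le_sup_right fun m hm hmE =>
        hchi m hm.2 (h1 m hmE ((hstab m q).1 hm.2))
    · exact T.level2 q hr0 hr h2 le_rfl le_sup_right (hchi z hz h1)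
    · exact T.level3 q hr0 hr h2 le_rfl le_sup_right ⟨hEP hE.mem, hz⟩) g hg
  have h2 := hV g
  rw [← Finset.mul_prod_erase _ _ (Finset.mem_univ ((1 : G) : G ⧸ H)), h1, mul_one] at h2
  simp only [c] at h2
  have h3 : ((1 : G) : G ⧸ H).out ∈ H := by
    have := QuotientGroup.eq.1 (QuotientGroup.out_eq' ((1 : G) : G ⧸ H))
    simpa using this
  rw [hone g (hPH hg), hκ _ (H.mul_mem (H.inv_mem h3) (hPH hg)) _ h3, hκ _ (H.inv_mem h3) _ (hPH hg),
    mul_right_comm, ← hκ _ (H.inv_mem h3) _ h3, inv_mul_cancel, (hκ1 1).2 K.one_mem, one_mul, hκ1] at h2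
  exact h2

theorem XS.card_le_of_comm {G : Type*} [Group G] [Finite G] {Q : Subgroup G} {z : G} (h : XS Q z)
    {D H : Subgroup G} (hD : D ≤ Q) (hz : z ∈ H) (hc : ∀ d ∈ D, ∀ a ∈ Q, a ∈ H → d * a = a * d) :
    Nat.card D ≤ 2 * H.relIndex Q := by
  haveI hn : (H.subgroupOf Q).Normal := ⟨fun a ha b => by
    rcases h.toXC.conj b.2 a.2 with e | e
    · show (b : G) * a * (b : G)⁻¹ ∈ H
      rw [e]; exact ha
    · show (b : G) * a * (b : G)⁻¹ ∈ H
      rw [e]; exact H.mul_mem ha hz⟩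
  let ψ : D →* (Q ⧸ H.subgroupOf Q →* ℂˣ) := MonoidHom.mk' (fun d =>
    QuotientGroup.lift (H.subgroupOf Q) (h.pairing ⟨d, hD d.2⟩) fun a ha =>
      (h.pairing_eq_one _ _).2 (hc d d.2 a a.2 ha)) fun a b => by
    ext x
    exact congrArg Units.val (DFunLike.congr_fun (h.pairing.map_mul ⟨a, hD a.2⟩ ⟨b, hD b.2⟩) x)
  have h1 : Nat.card (Q ⧸ H.subgroupOf Q →* ℂˣ) = (commutator (Q ⧸ H.subgroupOf Q)).index := by
    rw [Nat.card_congr (Abelianization.lift (G := Q ⧸ H.subgroupOf Q) (A := ℂˣ)),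
      CommGroup.card_monoidHom_of_hasEnoughRootsOfUnity]
    rfl
  have hfin : Finite (Q ⧸ H.subgroupOf Q →* ℂˣ) := by
    apply Nat.finite_of_card_ne_zero
    rw [h1]; exact Subgroup.index_ne_zero_of_finite
  have h2 : Nat.card ψ.ker ≤ 2 := by
    rw [← h.toXC.orderOf, ← Nat.card_zpowers]
    refine Nat.card_le_card_of_injective (fun d => ⟨d.1.1, h.toXC.mem_zpowers.2 (h.center _ (hD d.1.2)
      fun b hb => (h.pairing_eq_one ⟨d.1.1, hD d.1.2⟩ ⟨b, hb⟩).1
        (DFunLike.congr_fun (MonoidHom.mem_ker.1 d.2) ((⟨b, hb⟩ : Q) : Q ⧸ H.subgroupOf Q)))⟩)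
      fun a b e => Subtype.ext (Subtype.ext (by simpa using e))
  have h3 : ψ.ker.index ≤ H.relIndex Q := by
    rw [Subgroup.index_ker]
    refine (Nat.le_of_dvd Nat.card_pos (Subgroup.card_subgroup_dvd_card _)).trans ?_
    rw [h1]
    exact Nat.le_of_dvd Nat.card_pos (Subgroup.index_dvd_card _)
  rw [← ψ.ker.card_mul_index]
  exact Nat.mul_le_mul h2 h3

theorem h9_large_setup {G : Type*} [Group G] [Finite G] {z : G} (hz : orderOf z = 2) {E : Subgroup G}
    (hE : E = (pCore 2 ↥(Subgroup.centralizer ({z} : Set G))).map (Subgroup.centralizer ({z} : Set G)).subtype)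
    (hext : IsExtraspecial 2 ↥E) (hcent : Subgroup.centralizer (E : Set G) ≤ E) :
    XS E z ∧ E ≤ Subgroup.centralizer ({z} : Set G) ∧
      Subgroup.centralizer ({z} : Set G) ≤ Subgroup.normalizer (E : Set G) ∧
      ∀ t : G, t ∉ Subgroup.centralizer ({z} : Set G) → t⁻¹ * z * t ∈ Subgroup.centralizer ({z} : Set G) →
        ∃ k : ℕ, ((Subgroup.centralizer ({z} : Set G)).map (MulAut.conj t).toMonoidHom).relIndex E = 2 ^ k ∧
          1 ≤ k ∧ (k = 1 → t * z * t⁻¹ ∈ E) ∧ ∀ K : Subgroup G,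
            K.relIndex (Subgroup.centralizer ({z} : Set G)) = 2 → t⁻¹ * z * t ∉ K →
              Nat.card E ≤ 2 * (2 ^ k) ^ 2 := by
  have h1 : E ≤ Subgroup.centralizer ({z} : Set G) := hE ▸ Subgroup.map_subtype_le _
  have h2 : Subgroup.centralizer ({z} : Set G) ≤ Subgroup.normalizer (E : Set G) := hE ▸ le_normalizer_pCoreOf _
  obtain ⟨hz1, hz2⟩ := h9_orderOf_eq_two_iff.1 hz
  have h3 : ∀ a ∈ E, a * z = z * a := fun a ha => Subgroup.mem_centralizer_singleton_iff.1 (h1 ha)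
  have hX : XS E z := XS.of_isExtraspecial' hext (hcent fun a ha => h3 a ha) hz1 h3
  refine ⟨hX, h1, h2, fun t ht htz => ?_⟩
  have hc : (Subgroup.centralizer ({z} : Set G)).map (MulAut.conj t).toMonoidHom =
      Subgroup.centralizer ({t * z * t⁻¹} : Set G) := by
    ext x
    rw [h9_mem_conj_iff, Subgroup.mem_centralizer_singleton_iff, Subgroup.mem_centralizer_singleton_iff]
    constructor
    · intro h
      calc x * (t * z * t⁻¹) = t * (t⁻¹ * x * t * z) * t⁻¹ := by group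
        _ = _ := by rw [h]; group
    · intro h
      calc t⁻¹ * x * t * z = t⁻¹ * (x * (t * z * t⁻¹)) * t := by group
        _ = _ := by rw [h]; group
  have hzt : z ∈ Subgroup.centralizer ({t * z * t⁻¹} : Set G) := by rw [← hc, h9_mem_conj_iff]; exact htz
  obtain ⟨k, hk⟩ := hX.isPGroup.index
    (((Subgroup.centralizer ({z} : Set G)).map (MulAut.conj t).toMonoidHom).subgroupOf E)
  refine ⟨k, hk, ?_, ?_, fun K hK hzK => ?_⟩
  · by_contra h
    obtain rfl : k = 0 := by omega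
    have h4 := Subgroup.relIndex_eq_one.1 hk
    rw [hc] at h4
    have h5 : ∀ a ∈ E, a * (t * z * t⁻¹) = t * z * t⁻¹ * a := fun a ha =>
      Subgroup.mem_centralizer_singleton_iff.1 (h4 ha)
    rcases hX.center _ (hcent h5) (fun a ha => (h5 a ha).symm) with h | h
    · rw [mul_inv_eq_one, mul_eq_left] at h; exact hz1 h
    · exact ht (Subgroup.mem_centralizer_singleton_iff.2 (mul_inv_eq_iff_eq_mul.1 h))
  · rintro rfl
    obtain ⟨y, hy, h4⟩ := hX.inner_of_relIndex_le_two (w := t * z * t⁻¹) (by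
      rw [show t * z * t⁻¹ * (t * z * t⁻¹) = t * (z * z) * t⁻¹ by group, hz2]; group)
      (h2 (Subgroup.mem_centralizer_singleton_iff.2 (Subgroup.mem_centralizer_singleton_iff.1 hzt).symm))
      (by rw [← hc]; exact le_of_eq hk)
    exact (E.mul_mem_cancel_left (E.inv_mem hy)).1 (hcent fun a ha => (h4 a ha).symm)
  · set Ht := (Subgroup.centralizer ({z} : Set G)).map (MulAut.conj t).toMonoidHom with hHt
    have hm : ∀ a ∈ Ht, ∀ b ∈ Ht, (t⁻¹ * (a * b) * t ∈ K ↔ (t⁻¹ * a * t ∈ K ↔ t⁻¹ * b * t ∈ K)) := by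
      intro a ha b hb
      rw [show t⁻¹ * (a * b) * t = (t⁻¹ * a * t) * (t⁻¹ * b * t) by group]
      exact Subgroup.mul_mem_iff_of_index_two (H := K.subgroupOf _) hK
        (a := ⟨_, (h9_mem_conj_iff _ _ _).1 ha⟩) (b := ⟨_, (h9_mem_conj_iff _ _ _).1 hb⟩)
    have h4 := hX.card_le_of_comm (D := Ht ⊓ E) (H := Ht) inf_le_right (hc ▸ hzt) (by
      intro d hd a ha haH
      by_contra hne
      have h5 := hm _ (Ht.mul_mem haH hd.1) z (hc ▸ hzt)
      rw [← hX.toXC.of_ne hd.2 ha hne, hm _ hd.1 _ haH, hm _ haH _ hd.1] at h5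
      tauto)
    have h5 := relIndex_mul_card (inf_le_right : Ht ⊓ E ≤ E)
    rw [Subgroup.inf_relIndex_right] at h5
    rw [show Ht.relIndex E = 2 ^ k from hk] at h4 h5
    rw [← h5]
    nlinarith [Nat.pos_of_ne_zero (pow_ne_zero k two_ne_zero)]

theorem h9_not_sylow_le {G : Type*} [Group G] [Finite G] {H K P : Subgroup G} (hP : IsSylowIn 2 P H)
    (hK : K.relIndex H = 2) : ¬ P ≤ K := fun h =>
  hP.not_dvd_relIndex (hK ▸ Subgroup.relIndex_dvd_of_le_left H h)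

end Cfsg.Lib
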